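import Mathlib

/-!
# Degree arithmetic for groups of order `4 p^a q^b`
-/

set_option autoImplicit false

namespace Cfsg.Agent.Fg24.FourThree

/-- All prime divisors are `p` or `q`. -/
def IsPQ (p q n : ℕ) : Prop := ∀ r : ℕ, r.Prime → r ∣ n → r = p ∨ r = q

theorem IsPQ.of_dvd {p q n m : ℕ} (h : IsPQ p q n) (hd : m ∣ n) : IsPQ p q m :=
  fun r hr hrm => h r hr (hrm.trans hd)

theorem IsPQ.mul {p q n m : ℕ} (h : IsPQ p q n) (h' : IsPQ p q m) : IsPQ p q (n * m) :=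
  fun r hr hrm => (hr.dvd_mul.1 hrm).elim (h r hr) (h' r hr)

theorem IsPQ.pow {p q n : ℕ} (h : IsPQ p q n) (k : ℕ) : IsPQ p q (n ^ k) :=
  fun r hr hrm => h r hr (hr.dvd_of_dvd_pow hrm)

theorem isPQ_left {p q : ℕ} (hp : p.Prime) : IsPQ p q p :=
  fun _ hr hd => Or.inl ((Nat.prime_dvd_prime_iff_eq hr hp).1 hd)

theorem isPQ_right {p q : ℕ} (hq : q.Prime) : IsPQ p q q :=
  fun _ hr hd => Or.inr ((Nat.prime_dvd_prime_iff_eq hr hq).1 hd)

/-- Of three pairwise coprime numbers with prime divisors `p, q`, one is `1`. -/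
theorem exists_eq_one {p q u v w : ℕ} (hu : IsPQ p q u) (hv : IsPQ p q v) (hw : IsPQ p q w)
    (huv : u.Coprime v) (huw : u.Coprime w) (hvw : v.Coprime w) : u = 1 ∨ v = 1 ∨ w = 1 := by
  by_contra! h
  obtain ⟨h1, h2, h3⟩ := h
  obtain ⟨a, ha, hau⟩ := Nat.exists_prime_and_dvd h1
  obtain ⟨b, hb, hbv⟩ := Nat.exists_prime_and_dvd h2
  obtain ⟨c, hc, hcw⟩ := Nat.exists_prime_and_dvd h3
  have hab : a ≠ b := fun e => ha.not_dvd_one (huv.gcd_eq_one ▸ Nat.dvd_gcd hau (e ▸ hbv))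
  have hac : a ≠ c := fun e => ha.not_dvd_one (huw.gcd_eq_one ▸ Nat.dvd_gcd hau (e ▸ hcw))
  have hbc : b ≠ c := fun e => hb.not_dvd_one (hvw.gcd_eq_one ▸ Nat.dvd_gcd hbv (e ▸ hcw))
  rcases hu a ha hau with rfl | rfl <;> rcases hv b hb hbv with rfl | rfl <;>
    rcases hw c hc hcw with rfl | rfl <;> contradiction

/-- Two coprime numbers greater than `1` with prime divisors `p, q` are powers of them. -/
theorem pure {p q u v : ℕ} (hu : IsPQ p q u) (hv : IsPQ p q v) (hcop : u.Coprime v) (hu1 : 1 < u)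
    (hv1 : 1 < v) :
    (∃ i j, 1 ≤ i ∧ u = p ^ i ∧ v = q ^ j) ∨ (∃ i j, 1 ≤ i ∧ v = p ^ i ∧ u = q ^ j) := by
  have hu0 : u ≠ 0 := by omega
  have hv0 : v ≠ 0 := by omega
  obtain ⟨a, ha, hau⟩ := Nat.exists_prime_and_dvd (show u ≠ 1 by omega)
  obtain ⟨b, hb, hbv⟩ := Nat.exists_prime_and_dvd (show v ≠ 1 by omega)
  have hab : a ≠ b := fun e => ha.not_dvd_one (hcop.gcd_eq_one ▸ Nat.dvd_gcd hau (e ▸ hbv))
  have key : ∀ {u v r s : ℕ}, u ≠ 0 → IsPQ p q u → u.Coprime v → s.Prime → s ∣ v → r ∣ u → 1 < u →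
      ({r, s} : Set ℕ) = {p, q} → ∃ i, 1 ≤ i ∧ u = r ^ i := by
    intro u v r s hu0 hu hcop hs hsv _ hu1 hrs
    have h := Nat.eq_prime_pow_of_unique_prime_dvd (p := r) hu0 (fun {d} hd hdu => by
      have hd' : d ∈ ({r, s} : Set ℕ) := by rw [hrs]; exact hu d hd hdu
      rcases hd' with h | h
      · exact h
      · exact absurd (hcop.gcd_eq_one ▸ Nat.dvd_gcd hdu ((h : d = s) ▸ hsv)) hd.not_dvd_one)
    refine ⟨_, Nat.pos_of_ne_zero fun h0 => ?_, h⟩
    rw [h0, pow_zero] at h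
    omega
  rcases hu a ha hau with rfl | rfl <;> rcases hv b hb hbv with rfl | rfl
  · exact absurd rfl hab
  · obtain ⟨i, hi, hui⟩ := key hu0 hu hcop hb hbv hau hu1 rfl
    obtain ⟨j, -, hvj⟩ := key hv0 hv hcop.symm ha hau hbv hv1 (Set.pair_comm _ _)
    exact Or.inl ⟨i, j, hi, hui, hvj⟩
  · obtain ⟨i, hi, hvi⟩ := key hv0 hv hcop.symm ha hau hbv hv1 rfl
    obtain ⟨j, -, huj⟩ := key hu0 hu hcop hb hbv hau hu1 (Set.pair_comm _ _)
    exact Or.inr ⟨i, j, hi, hvi, huj⟩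
  · exact absurd rfl hab

theorem coprime_two_mul_add {B : ℕ} : (2 * B + 1).Coprime B := by
  rw [Nat.coprime_comm, add_comm, mul_comm, Nat.coprime_add_mul_left_right]
  exact Nat.coprime_one_right B

theorem not_both {q u v j l : ℕ} (hu : u = q ^ j) (hv : v = q ^ l) (hu1 : u ≠ 1) (hv1 : v ≠ 1)
    (hcop : u.Coprime v) : False := by
  subst hu hv
  have hj : j ≠ 0 := fun h => hu1 (by rw [h, pow_zero])
  have hl : l ≠ 0 := fun h => hv1 (by rw [h, pow_zero])
  have hq : q = 1 := Nat.dvd_one.1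
    (hcop.gcd_eq_one ▸ Nat.dvd_gcd (dvd_pow_self q hj) (dvd_pow_self q hl))
  exact hu1 (by rw [hq, one_pow])

/-- A degree congruent to `3` modulo `4`. -/
theorem neg_shape {p q x B : ℕ} (hxpq : IsPQ p q x) (hBpq : IsPQ p q B) (hB : x = 2 * B + 1)
    (hBodd : Odd B) (hle : ∀ i, x = p ^ i → i ≤ 2) (hpodd : Odd p) :
    (x = 3 ∧ B = 1) ∨ (x = p ∧ ∃ l, B = q ^ l) ∨
      (∃ i l, 1 ≤ i ∧ x = 2 * p ^ i + 1 ∧ B = p ^ i ∧ x = q ^ l) := by
  rcases Nat.lt_or_ge 1 B with h | h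
  · rcases pure hxpq hBpq (hB ▸ coprime_two_mul_add) (by omega) h with
      ⟨i, l, hi, hx, hB'⟩ | ⟨i, l, hi, hB', hx⟩
    · refine Or.inr (Or.inl ⟨?_, l, hB'⟩)
      rcases (by have := hle i hx; omega : i = 1 ∨ i = 2) with h' | h'
      · rw [hx, h', pow_one]
      · exfalso
        obtain ⟨c, hc⟩ := hpodd
        obtain ⟨d, hd⟩ := hBodd
        rw [h', hc] at hx
        rw [hd] at hB
        have : x = 4 * (c * c + c) + 1 := by rw [hx]; ring
        omega
    · exact Or.inr (Or.inr ⟨i, l, hi, by rw [hB, hB'], hB', hx⟩)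
  · obtain ⟨d, hd⟩ := hBodd
    exact Or.inl ⟨by omega, by omega⟩

theorem dvd_pow_of_le {p i : ℕ} (hi : 1 ≤ i) : p ∣ p ^ i := dvd_pow_self p (by omega)

set_option maxHeartbeats 1600000 in
/-- The degrees are `5, 3, 3`. -/
theorem degrees_eq {p q x₁ x₂ x₃ A B D : ℕ} (hp : p.Prime) (hpodd : Odd p)
    (h1 : x₁ + 1 = 2 * A) (h2 : x₂ = 2 * B + 1) (h3 : x₃ = 2 * D + 1) (hrel : x₁ + 1 = x₂ + x₃)
    (oA : Odd A) (oB : Odd B) (oD : Odd D) (hx1 : 1 < x₁)
    (q1 : IsPQ p q x₁) (q2 : IsPQ p q x₂) (q3 : IsPQ p q x₃)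
    (qA : IsPQ p q A) (qB : IsPQ p q B) (qD : IsPQ p q D)
    (le1 : ∀ i, x₁ = p ^ i → i ≤ 2) (le2 : ∀ i, x₂ = p ^ i → i ≤ 2)
    (le3 : ∀ i, x₃ = p ^ i → i ≤ 2) : x₁ = 5 ∧ x₂ = 3 ∧ x₃ = 3 := by
  have hp3 : 3 ≤ p := by
    obtain ⟨c, hc⟩ := hpodd
    have := hp.two_le
    omega
  have hA : 1 < A := by omega
  have hcopA : x₁.Coprime A := by
    have hd : ∀ d, d ∣ x₁ → d ∣ A → d ∣ 1 := fun d hd hdA =>
      (Nat.dvd_add_right hd).1 (h1 ▸ dvd_mul_of_dvd_right hdA 2)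
    exact Nat.dvd_one.1 (hd _ (Nat.gcd_dvd_left _ _) (Nat.gcd_dvd_right _ _))
  have dvd_small : ∀ {n : ℕ}, 0 < n → p ∣ n → p ≤ n := fun hn h => Nat.le_of_dvd hn h
  -- the exceptional configuration `9, 7, 3`
  have nine : ∀ j : ℕ, A = q ^ j → x₁ = 9 → ∀ l : ℕ, ∀ y : ℕ, y = q ^ l → y = 7 → False :=
    fun j hA' h9 l y hy h7 => by
      have hA5 : A = 5 := by omega
      exact not_both hA' hy (by omega) (by omega) (by rw [hA5, h7]; norm_num)
  rcases pure q1 qA hcopA hx1 hA with ⟨i, j, hi, hx, hA'⟩ | ⟨i, j, hi, hA', hx⟩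
  · have hxp : x₁ = p ∨ x₁ = p * p := by
      rcases (by have := le1 i hx; omega : i = 1 ∨ i = 2) with h | h
      · exact Or.inl (by rw [hx, h, pow_one])
      · exact Or.inr (by rw [hx, h, pow_two])
    have hd1 : p ∣ x₁ := hx ▸ dvd_pow_of_le hi
    rcases neg_shape q2 qB h2 oB le2 hpodd with ⟨e2, -⟩ | ⟨e2, l2, hB⟩ | ⟨i2, l2, hi2, e2, hB, hq2⟩ <;>
    rcases neg_shape q3 qD h3 oD le3 hpodd with ⟨e3, -⟩ | ⟨e3, l3, hD⟩ | ⟨i3, l3, hi3, e3, hD, hq3⟩
    · exact ⟨by omega, e2, e3⟩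
    · -- `3 + p = x₁ + 1`
      rcases hxp with h | h
      · omega
      · exfalso; nlinarith
    · -- `3 + (2 p^i + 1)`
      exfalso
      have hd : p ∣ 2 * p ^ i3 := dvd_mul_of_dvd_right (dvd_pow_of_le hi3) 2
      have h' : p ∣ 3 := by
        refine (Nat.dvd_add_right hd).1 ?_
        rw [show 2 * p ^ i3 + 3 = x₁ by omega]
        exact hd1
      have hp' : p = 3 := le_antisymm (dvd_small (by norm_num) h') hp3
      subst hp'
      have h9 : x₁ = 9 := by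
        rcases hxp with h | h
        · have := Nat.one_le_pow i3 3 (by norm_num); omega
        · omega
      exact nine j hA' h9 l3 x₃ hq3 (by omega)
    · rcases hxp with h | h
      · omega
      · exfalso; nlinarith
    · exfalso
      rcases hxp with h | h
      · omega
      · nlinarith
    · -- `p + (2 p^i + 1)`
      exfalso
      have hge : p ≤ p ^ i3 := Nat.le_self_pow (by omega) p
      rcases hxp with h | h
      · omega
      rcases (by omega : i3 = 1 ∨ 2 ≤ i3) with h' | h'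
      · rw [h', pow_one] at e3
        have hp' : p = 3 := by nlinarith
        subst hp'
        exact nine j hA' (by omega) l3 x₃ hq3 (by omega)
      · have := Nat.pow_le_pow_right hp.pos h'
        rw [pow_two] at this
        omega
    · exfalso
      have hd : p ∣ 2 * p ^ i2 := dvd_mul_of_dvd_right (dvd_pow_of_le hi2) 2
      have h' : p ∣ 3 := by
        refine (Nat.dvd_add_right hd).1 ?_
        rw [show 2 * p ^ i2 + 3 = x₁ by omega]
        exact hd1
      have hp' : p = 3 := le_antisymm (dvd_small (by norm_num) h') hp3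
      subst hp'
      have h9 : x₁ = 9 := by
        rcases hxp with h | h
        · have := Nat.one_le_pow i2 3 (by norm_num); omega
        · omega
      exact nine j hA' h9 l2 x₂ hq2 (by omega)
    · exfalso
      have hge : p ≤ p ^ i2 := Nat.le_self_pow (by omega) p
      rcases hxp with h | h
      · omega
      rcases (by omega : i2 = 1 ∨ 2 ≤ i2) with h' | h'
      · rw [h', pow_one] at e2
        have hp' : p = 3 := by nlinarith
        subst hp'
        exact nine j hA' (by omega) l2 x₂ hq2 (by omega)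
      · have := Nat.pow_le_pow_right hp.pos h'
        rw [pow_two] at this
        omega
    · exfalso
      have hd : p ∣ 2 * p ^ i2 + 2 * p ^ i3 :=
        dvd_add (dvd_mul_of_dvd_right (dvd_pow_of_le hi2) 2)
          (dvd_mul_of_dvd_right (dvd_pow_of_le hi3) 2)
      have h' : p ∣ 1 := by
        refine (Nat.dvd_add_right hd).1 ?_
        rw [show 2 * p ^ i2 + 2 * p ^ i3 + 1 = x₁ by omega]
        exact hd1
      exact hp.not_dvd_one h'
  · have hd1 : p ∣ x₂ + x₃ := by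
      rw [← hrel, h1, hA']
      exact dvd_mul_of_dvd_right (dvd_pow_of_le hi) 2
    have hAp : p ≤ A := hA' ▸ Nat.le_self_pow (by omega) p
    rcases neg_shape q2 qB h2 oB le2 hpodd with ⟨e2, -⟩ | ⟨e2, l2, hB⟩ | ⟨i2, l2, hi2, e2, hB, hq2⟩ <;>
    rcases neg_shape q3 qD h3 oD le3 hpodd with ⟨e3, -⟩ | ⟨e3, l3, hD⟩ | ⟨i3, l3, hi3, e3, hD, hq3⟩
    · exact ⟨by omega, e2, e3⟩
    · have h' : p ∣ 3 := (Nat.dvd_add_left (dvd_refl p)).1 (by rwa [e2, e3] at hd1)
      have hp' : p = 3 := le_antisymm (dvd_small (by norm_num) h') hp3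
      exact ⟨by omega, e2, by omega⟩
    · exfalso
      have hd : p ∣ 2 * p ^ i3 := dvd_mul_of_dvd_right (dvd_pow_of_le hi3) 2
      have h' : p ∣ 4 := (Nat.dvd_add_right hd).1 (by rwa [show 2 * p ^ i3 + 4 = x₂ + x₃ by omega])
      have := (Nat.prime_dvd_prime_iff_eq hp Nat.prime_two).1
        (hp.dvd_of_dvd_pow (n := 2) (m := 2) (by norm_num; exact h'))
      omega
    · have h' : p ∣ 3 := (Nat.dvd_add_right (dvd_refl p)).1 (by rwa [e2, e3] at hd1)
      have hp' : p = 3 := le_antisymm (dvd_small (by norm_num) h') hp3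
      exact ⟨by omega, by omega, e3⟩
    · -- `x₁ = 2 p - 1`, `x₂ = x₃ = p`
      have hAe : A = p := by omega
      have hB1 : B = 1 := by
        by_contra hne
        refine not_both hx hB (by omega) hne ?_
        rw [show x₁ = 4 * B + 1 by omega, Nat.coprime_comm, add_comm, mul_comm,
          Nat.coprime_add_mul_left_right]
        exact Nat.coprime_one_right B
      exact ⟨by omega, by omega, by omega⟩
    · exfalso
      have hd : p ∣ p + 2 * p ^ i3 := dvd_add dvd_rfl (dvd_mul_of_dvd_right (dvd_pow_of_le hi3) 2)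
      exact hp.not_dvd_one ((Nat.dvd_add_right hd).1 (by
        rwa [show p + 2 * p ^ i3 + 1 = x₂ + x₃ by omega]))
    · exfalso
      have hd : p ∣ 2 * p ^ i2 := dvd_mul_of_dvd_right (dvd_pow_of_le hi2) 2
      have h' : p ∣ 4 := (Nat.dvd_add_right hd).1 (by rwa [show 2 * p ^ i2 + 4 = x₂ + x₃ by omega])
      have := (Nat.prime_dvd_prime_iff_eq hp Nat.prime_two).1
        (hp.dvd_of_dvd_pow (n := 2) (m := 2) (by norm_num; exact h'))
      omega
    · exfalso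
      have hd : p ∣ p + 2 * p ^ i2 := dvd_add dvd_rfl (dvd_mul_of_dvd_right (dvd_pow_of_le hi2) 2)
      exact hp.not_dvd_one ((Nat.dvd_add_right hd).1 (by
        rwa [show p + 2 * p ^ i2 + 1 = x₂ + x₃ by omega]))
    · exfalso
      have hd : p ∣ 2 * p ^ i2 + 2 * p ^ i3 :=
        dvd_add (dvd_mul_of_dvd_right (dvd_pow_of_le hi2) 2)
          (dvd_mul_of_dvd_right (dvd_pow_of_le hi3) 2)
      have h' : p ∣ 2 := (Nat.dvd_add_right hd).1 (by
        rwa [show 2 * p ^ i2 + 2 * p ^ i3 + 2 = x₂ + x₃ by omega])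
      have := dvd_small (by norm_num) h'
      omega

/-- The other sign pattern gives only degree `3`. -/
theorem pos_three {p q x : ℕ} (hx : x % 8 = 3) (h : IsPQ p q x) (hm : IsPQ p q ((x - 1) / 2))
    (hP : IsPQ p q ((x + 1) / 4)) : x = 3 := by
  obtain ⟨s, rfl⟩ : ∃ s, x = 8 * s + 3 := ⟨x / 8, by omega⟩
  rw [show (8 * s + 3 - 1) / 2 = 4 * s + 1 by omega] at hm
  rw [show (8 * s + 3 + 1) / 4 = 2 * s + 1 by omega] at hP
  have c1 : (8 * s + 3).Coprime (4 * s + 1) := by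
    rw [show 8 * s + 3 = 1 + (4 * s + 1) * 2 by ring, Nat.coprime_add_mul_left_left]
    exact Nat.coprime_one_left _
  have c2 : (8 * s + 3).Coprime (2 * s + 1) := by
    have hd : ∀ d, d ∣ 8 * s + 3 → d ∣ 2 * s + 1 → d ∣ 1 := fun d hd hd' =>
      (Nat.dvd_add_right hd).1 (by
        rw [show 8 * s + 3 + 1 = 4 * (2 * s + 1) by ring]
        exact dvd_mul_of_dvd_right hd' 4)
    exact Nat.dvd_one.1 (hd _ (Nat.gcd_dvd_left _ _) (Nat.gcd_dvd_right _ _))
  have c3 : (4 * s + 1).Coprime (2 * s + 1) := by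
    have hd : ∀ d, d ∣ 4 * s + 1 → d ∣ 2 * s + 1 → d ∣ 1 := fun d hd hd' =>
      (Nat.dvd_add_right hd).1 (by
        rw [show 4 * s + 1 + 1 = 2 * (2 * s + 1) by ring]
        exact dvd_mul_of_dvd_right hd' 2)
    exact Nat.dvd_one.1 (hd _ (Nat.gcd_dvd_left _ _) (Nat.gcd_dvd_right _ _))
  rcases exists_eq_one h hm hP c1 c2 c3 with h' | h' | h' <;> omega

end Cfsg.Agent.Fg24.FourThree
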