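import Cfsg.Agent.Fg24.FourThree.Section
import Cfsg.Agent.Fg24.HalfDeg.Loc
import Cfsg.Agent.Fg24.TuanBrauer.Count
import Mathlib.GroupTheory.FixedPointFree

/-!
# The centralizer of an involution when the principal 2-block has a faithful character of degree 3
-/

set_option autoImplicit false
set_option linter.unusedSectionVars false

open Cfsg
open scoped ComplexConjugate Classical

namespace Cfsg.Agent.Fg24.FourThree

universe u

variable {G : Type u} [Group G] [Fintype G]

/-- The multiplicity of the trivial character in the restriction. -/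
theorem exists_mult {χ : G → ℂ} (hχ : IsCharacter G χ) (H : Subgroup G) :
    ∃ m : ℕ, ∑ g ∈ Finset.univ.filter (fun g : G => g ∈ H), χ g = (Nat.card H : ℂ) * m :=
  TuanBrauer.exists_sum_eq hχ H

theorem card_filter_mem (H : Subgroup G) :
    (Finset.univ.filter fun g : G => g ∈ H).card = Nat.card H := by
  rw [Nat.card_eq_fintype_card, Fintype.card_subtype]

/-- If the trivial character occurs on `H`, it occurs on a subgroup of `H`. -/
theorem sum_ne_zero {χ : G → ℂ} (hχ : IsCharacter G χ) {H W : Subgroup G} (hWH : W ≤ H)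
    (h : ∑ g ∈ Finset.univ.filter (fun g : G => g ∈ H), χ g ≠ 0) :
    ∑ g ∈ Finset.univ.filter (fun g : G => g ∈ W), χ g ≠ 0 := by
  have hr := Char.isCharacter_res H hχ
  have h0 : classInner (fun k : H => χ k) (fun _ => (1 : ℂ)) ≠ 0 := by
    rw [classInner, mul_ne_zero_iff]
    refine ⟨inv_ne_zero (Nat.cast_ne_zero.2 Nat.card_pos.ne'), ?_⟩
    simp only [map_one, mul_one]
    rwa [← Finset.sum_subtype (Finset.univ.filter fun g : G => g ∈ H) (p := fun g => g ∈ H)
      (F := inferInstance) (fun g => by simp) χ]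
  have hsub := Char.IsChar.sub_constituent hr (ψ := fun _ : H => (1 : ℂ))
    Char.isIrrCharacter_one h0
  obtain ⟨n, hn⟩ := Char.classInner_isCharacter_eq_natCast (G := W.subgroupOf H)
    (Char.isCharacter_res (W.subgroupOf H) hsub) Char.isCharacter_one
  intro hW
  have e : ∑ w : W.subgroupOf H, χ ((w : H) : G) =
      ∑ g ∈ Finset.univ.filter (fun g : G => g ∈ W), χ g := by
    rw [Finset.sum_subtype (Finset.univ.filter fun g : G => g ∈ W) (p := fun g => g ∈ W)
      (F := inferInstance) (fun g => by simp) χ]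
    exact Fintype.sum_equiv (Subgroup.subgroupOfEquivOfLe hWH).toEquiv _ _ fun w => rfl
  rw [classInner] at hn
  simp only [map_one, mul_one, Pi.sub_apply, Finset.sum_sub_distrib] at hn
  rw [e, hW, Finset.sum_const, Finset.card_univ, nsmul_eq_mul, mul_one, zero_sub, mul_neg,
    ← Nat.card_eq_fintype_card, inv_mul_cancel₀ (Nat.cast_ne_zero.2 Nat.card_pos.ne')] at hn
  have h1 : ((n : ℕ) : ℂ).re = (-1 : ℂ).re := by rw [← hn]
  simp at h1
  have : (0 : ℝ) ≤ n := Nat.cast_nonneg n
  linarith

/-- A faithful character with maximal average is on the trivial subgroup. -/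
theorem eq_bot_of_full {χ : G → ℂ} (hχ : IsCharacter G χ) (hfaith : ∀ g : G, χ g = χ 1 → g = 1)
    {H : Subgroup G}
    (h : ∑ g ∈ Finset.univ.filter (fun g : G => g ∈ H), χ g = (Nat.card H : ℂ) * χ 1) :
    H = ⊥ := by
  have hone : χ 1 = (charDegree χ : ℂ) := (Blocks.charDegree_cast hχ).symm
  have hre : ∀ g ∈ Finset.univ.filter (fun g : G => g ∈ H), (χ g).re ≤ (charDegree χ : ℝ) :=
    fun g _ => ((Complex.re_le_norm _).trans (Char.IsChar.norm_le hχ g)).trans
      (le_of_eq (by rw [hone, Complex.natCast_re]))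
  refine (Subgroup.eq_bot_iff_forall _).2 fun k hk => hfaith k ?_
  have h2 := (Finset.sum_eq_sum_iff_of_le hre).1 (by
    rw [← Complex.re_sum, h, hone, Finset.sum_const, card_filter_mem, nsmul_eq_mul,
      ← Nat.cast_mul, Complex.natCast_re, Nat.cast_mul]) k
    (Finset.mem_filter.2 ⟨Finset.mem_univ _, hk⟩)
  have hn := Char.IsChar.norm_le hχ k
  rw [hone, Complex.natCast_re, ← h2] at hn
  have hre' : ‖χ k‖ = (χ k).re := le_antisymm hn (Complex.re_le_norm _)
  have him : (χ k).im = 0 := by
    have h3 := Complex.normSq_eq_norm_sq (χ k)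
    rw [hre', Complex.normSq_apply] at h3
    nlinarith
  rw [hone]
  exact Complex.ext (by rw [h2, Complex.natCast_re]) (by rw [him, Complex.natCast_im])

/-- The subgroup `O ∪ J O`. -/
theorem exists_extend {J : G} {O : Subgroup G} (hJJ : J * J = 1)
    (hJv : ∀ v ∈ O, J * v = v * J) (hJO : J ∉ O) :
    ∃ H : Subgroup G, (∀ g, g ∈ H ↔ g ∈ O ∨ J * g ∈ O) ∧ Nat.card H = 2 * Nat.card O ∧
      ∀ f : G → ℂ, ∑ g ∈ Finset.univ.filter (fun g : G => g ∈ H), f g =
        ∑ v ∈ Finset.univ.filter (fun v : G => v ∈ O), f v +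
          ∑ v ∈ Finset.univ.filter (fun v : G => v ∈ O), f (J * v) := by
  have hJc : ∀ v ∈ O, ∀ w : G, v * (J * w) = J * (v * w) := fun v hv w => by
    rw [← mul_assoc, ← hJv v hv, mul_assoc]
  have hcomm : ∀ a, J * a ∈ O → a * J = J * a := fun a ha => by
    have h := hJv _ ha
    calc a * J = J * (J * a * J) := by rw [mul_assoc J a J, ← mul_assoc J J, hJJ, one_mul]
      _ = J * a := by rw [← h, ← mul_assoc J J a, hJJ, one_mul]
  let H : Subgroup G :=
    { carrier := {x | x ∈ O ∨ J * x ∈ O}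
      one_mem' := Or.inl O.one_mem
      mul_mem' := by
        rintro a b (ha | ha) (hb | hb)
        · exact Or.inl (mul_mem ha hb)
        · exact Or.inr (hJc a ha b ▸ mul_mem ha hb)
        · exact Or.inr (by rw [← mul_assoc]; exact mul_mem ha hb)
        · refine Or.inl ?_
          have h := mul_mem ha hb
          rwa [← mul_assoc, mul_assoc J a J, hcomm a ha, ← mul_assoc J J a, hJJ, one_mul] at h
      inv_mem' := by
        rintro a (ha | ha)
        · exact Or.inl (inv_mem ha)
        · refine Or.inr ?_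
          have h := inv_mem ha
          have e : J⁻¹ = J := inv_eq_of_mul_eq_one_right hJJ
          rwa [← hcomm a ha, mul_inv_rev, e] at h }
  have hJinj : Function.Injective (fun v : G => J * v) := mul_right_injective J
  have hset : Finset.univ.filter (fun g : G => g ∈ H) =
      Finset.univ.filter (fun v : G => v ∈ O) ∪
        (Finset.univ.filter fun v : G => v ∈ O).image (fun v => J * v) := by
    ext g
    simp only [Finset.mem_filter, Finset.mem_univ, true_and, Finset.mem_union, Finset.mem_image]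
    show g ∈ O ∨ J * g ∈ O ↔ _
    refine or_congr_right ⟨fun h => ⟨J * g, h, by rw [← mul_assoc, hJJ, one_mul]⟩, ?_⟩
    rintro ⟨v, hv, rfl⟩
    rwa [← mul_assoc, hJJ, one_mul]
  have hdisj : Disjoint (Finset.univ.filter fun v : G => v ∈ O)
      ((Finset.univ.filter fun v : G => v ∈ O).image (fun v => J * v)) := by
    rw [Finset.disjoint_left]
    intro g hg hg'
    obtain ⟨v, hv, rfl⟩ := Finset.mem_image.1 hg'
    refine hJO ?_
    simpa using mul_mem (Finset.mem_filter.1 hg).2 (inv_mem (Finset.mem_filter.1 hv).2)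
  refine ⟨H, fun g => Iff.rfl, ?_, fun f => ?_⟩
  · rw [← card_filter_mem H, hset, Finset.card_union_of_disjoint hdisj,
      Finset.card_image_of_injective _ hJinj, card_filter_mem, two_mul]
  · rw [hset, Finset.sum_union hdisj, Finset.sum_image hJinj.injOn]

set_option maxHeartbeats 800000 in
/-- The centralizer of an involution has order four. -/
theorem card_centralizer_eq_four {P : Sylow 2 G} (hP4 : Nat.card (P : Subgroup G) = 4)
    (hPcomm : ∀ a ∈ (P : Subgroup G), ∀ b ∈ (P : Subgroup G), a * b = b * a)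
    {J : G} (hJ : J ∈ (P : Subgroup G)) (hJ2 : orderOf J = 2)
    (hone : ∀ z ∈ (P : Subgroup G), z ≠ 1 → orderOf z = 2 ∧ IsConj J z) {χ : IrrCharacter G}
    (hfaith : ∀ g : G, (χ : G → ℂ) g = (χ : G → ℂ) 1 → g = 1) (h1 : (χ : G → ℂ) 1 = 3)
    (hJval : (χ : G → ℂ) J = -1) {O : Subgroup G}
    (hOC : O ≤ Subgroup.centralizer ({J} : Set G)) (hOodd : Odd (Nat.card O))
    (hcard : Nat.card (Subgroup.centralizer ({J} : Set G)) = 4 * Nat.card O)
    (hOn : ∀ g ∈ Subgroup.centralizer ({J} : Set G), ∀ v ∈ O, g * v * g⁻¹ ∈ O)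
    (havg : ∑ v ∈ Finset.univ.filter (fun v : G => v ∈ O), (χ : G → ℂ) (J * v) =
      (Nat.card O : ℂ) * (χ : G → ℂ) J) :
    Nat.card (Subgroup.centralizer ({J} : Set G)) = 4 := by
  set C := Subgroup.centralizer ({J} : Set G) with hC
  have hχ := Char.IsIrr.isCharacter χ.2
  have hmemC : ∀ g, g ∈ C ↔ g * J = J * g := fun g => Subgroup.mem_centralizer_singleton_iff
  have hJJ : J * J = 1 := by rw [← sq, ← hJ2, pow_orderOf_eq_one]
  have hJ1 : J ≠ 1 := fun h => by rw [h, orderOf_one] at hJ2; omega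
  have hPC : (P : Subgroup G) ≤ C := fun z hz => (hmemC z).2 (hPcomm z hz J hJ)
  have hJC : J ∈ C := (hmemC J).2 rfl
  have hoddo : ∀ v ∈ O, Odd (orderOf v) := fun v hv =>
    hOodd.of_dvd_nat (Subgroup.orderOf_dvd_natCard _ hv)
  have hnot2 : ∀ v ∈ O, v ∈ (P : Subgroup G) → v = 1 := by
    intro v hv hvP
    by_contra h
    have h2 := hoddo v hv
    rw [(hone v hvP h).1] at h2
    exact absurd h2 (by decide)
  have hJO : J ∉ O := fun h => hJ1 (hnot2 J h hJ)
  -- odd order elements of `C` lie in `O`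
  have hodd_mem : ∀ g ∈ C, Odd (orderOf g) → g ∈ O := by
    intro g hg ho
    have hNC : (O.subgroupOf C).Normal := ⟨fun n hn c => Subgroup.mem_subgroupOf.2
      (hOn c c.2 n (Subgroup.mem_subgroupOf.1 hn))⟩
    have hidx : (O.subgroupOf C).index = 4 := by
      have h2 := (O.subgroupOf C).card_mul_index
      rw [Nat.card_congr (Subgroup.subgroupOfEquivOfLe hOC).toEquiv, hcard, mul_comm 4] at h2
      exact Nat.eq_of_mul_eq_mul_left Nat.card_pos h2
    have h4 : (⟨g, hg⟩ : C) ^ 4 ∈ O.subgroupOf C := hidx ▸ Subgroup.pow_index_mem _ _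
    rw [Subgroup.mem_subgroupOf] at h4
    change g ^ 4 ∈ O at h4
    obtain ⟨k, -, hk⟩ := Nat.exists_mul_mod_eq_of_coprime (n := 4) 1
      (show Nat.Coprime 4 (orderOf g) by
        rw [show 4 = 2 ^ 2 by norm_num]
        exact (Nat.coprime_two_left.2 ho).pow_left 2) (orderOf_pos g).ne'
    rw [← pow_one g, ← pow_mod_orderOf, ← hk, pow_mod_orderOf, pow_mul]
    exact pow_mem h4 k
  obtain ⟨F, hF⟩ := exists_mult hχ O
  obtain ⟨H, hH, hHc, hHsum⟩ := exists_extend hJJ (fun v hv => ((hmemC v).1 (hOC hv)).symm) hJO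
  obtain ⟨m, hm⟩ := exists_mult hχ H
  have hOc0 : (Nat.card O : ℂ) ≠ 0 := Nat.cast_ne_zero.2 Nat.card_pos.ne'
  have hFm : F = 2 * m + 1 := by
    have h := hHsum (χ : G → ℂ)
    rw [hm, hF, havg, hHc, hJval] at h
    have h' : ((F : ℕ) : ℂ) = ((2 * m + 1 : ℕ) : ℂ) := by
      refine mul_left_cancel₀ hOc0 ?_
      push_cast at h ⊢
      linear_combination -h
    exact_mod_cast h'
  have hFle : ∀ (S : Subgroup G) (k : ℕ),
      ∑ g ∈ Finset.univ.filter (fun g : G => g ∈ S), (χ : G → ℂ) g = (Nat.card S : ℂ) * k →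
      k ≤ 3 := by
    intro S k hk
    have h := Finset.sum_le_sum (s := Finset.univ.filter fun g : G => g ∈ S)
      (f := fun g => ((χ : G → ℂ) g).re) (g := fun _ => (3 : ℝ)) (fun g _ => by
        refine (Complex.re_le_norm _).trans ((Char.IsChar.norm_le hχ g).trans (le_of_eq ?_))
        rw [h1]; norm_num)
    rw [← Complex.re_sum, hk, ← Nat.cast_mul, Complex.natCast_re, Finset.sum_const,
      card_filter_mem, nsmul_eq_mul, Nat.cast_mul] at h
    exact_mod_cast le_of_mul_le_mul_left h (Nat.cast_pos.2 Nat.card_pos)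
  -- the part of `O` centralizing `P`
  set W := O ⊓ Subgroup.centralizer ((P : Subgroup G) : Set G) with hW
  have hWbot : W = ⊥ := by
    obtain ⟨FW, hFW⟩ := exists_mult hχ W
    have hWmem : ∀ g, g ∈ W ↔ g ∈ Subgroup.centralizer ((P : Subgroup G) : Set G) ∧
        Odd (orderOf g) := by
      intro g
      refine ⟨fun h => ⟨h.2, hoddo g h.1⟩, fun h => ⟨hodd_mem g ((hmemC g).2
        (Subgroup.mem_centralizer_iff.1 h.1 J hJ).symm) h.2, h.1⟩⟩
    have hA : ∀ z ∈ (P : Subgroup G), z ≠ 1 →
        ∑ v ∈ Finset.univ.filter (fun v : G => v ∈ W), (χ : G → ℂ) (z * v) =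
        ∑ v ∈ Finset.univ.filter (fun v : G => v ∈ W), (χ : G → ℂ) (J * v) := by
      intro z hz hz1
      obtain ⟨g, hg⟩ := isConj_iff.1 (hone z hz hz1).2
      haveI : IsMulCommutative (P : Subgroup G) :=
        ⟨⟨fun a b => Subtype.ext (hPcomm a a.2 b b.2)⟩⟩
      obtain ⟨n₀, hn₀, hn'⟩ := P.conj_eq_normalizer_conj_of_mem J g⁻¹ hJ (by
        rw [inv_inv, hg]; exact hz)
      rw [inv_inv, hg] at hn'
      obtain ⟨n, hn, hz'⟩ : ∃ n ∈ Subgroup.normalizer ((P : Subgroup G) : Set G),
          z = n * J * n⁻¹ := ⟨n₀⁻¹, inv_mem hn₀, by rw [inv_inv]; exact hn'⟩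
      have hnc : ∀ v, v ∈ W ↔ n⁻¹ * v * n ∈ W := by
        intro v
        have hmp : ∀ (m : G), m ∈ Subgroup.normalizer ((P : Subgroup G) : Set G) → ∀ v,
            v ∈ W → m⁻¹ * v * m ∈ W := by
          intro m hm v hv
          obtain ⟨h2, h3⟩ := (hWmem v).1 hv
          refine (hWmem _).2 ⟨Subgroup.mem_centralizer_iff.2 fun x hx => ?_, ?_⟩
          · have hx' := (Subgroup.mem_normalizer_iff.1 hm x).1 hx
            have := Subgroup.mem_centralizer_iff.1 h2 _ hx'
            calc x * (m⁻¹ * v * m) = m⁻¹ * ((m * x * m⁻¹) * v) * m := by group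
              _ = m⁻¹ * (v * (m * x * m⁻¹)) * m := by rw [this]
              _ = m⁻¹ * v * m * x := by group
          · have h4 := Blocks.orderOf_conj' v m⁻¹
            rw [inv_inv] at h4
            rwa [h4]
        refine ⟨hmp n hn v, fun h => ?_⟩
        have h2 := hmp n⁻¹ (inv_mem hn) _ h
        rwa [show n⁻¹⁻¹ * (n⁻¹ * v * n) * n⁻¹ = v by group] at h2
      refine (Finset.sum_bij (fun v _ => n * v * n⁻¹) (fun v hv => ?_) (fun a _ b _ h => ?_)
        (fun b hb => ?_) fun v _ => ?_).symm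
      · refine Finset.mem_filter.2 ⟨Finset.mem_univ _, (hnc _).2 ?_⟩
        rw [show n⁻¹ * (n * v * n⁻¹) * n = v by group]
        exact (Finset.mem_filter.1 hv).2
      · exact mul_left_cancel (mul_right_cancel h)
      · exact ⟨n⁻¹ * b * n, Finset.mem_filter.2 ⟨Finset.mem_univ _,
          (hnc b).1 (Finset.mem_filter.1 hb).2⟩, by group⟩
      · show (χ : G → ℂ) (J * v) = (χ : G → ℂ) (z * (n * v * n⁻¹))
        rw [hz', show n * J * n⁻¹ * (n * v * n⁻¹) = n * (J * v) * n⁻¹ by group,
          Char.isClassFunction_of_isIrr χ.2]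
    have hP0 : ∑ g ∈ Finset.univ.filter (fun g : G => g ∈ (P : Subgroup G)), (χ : G → ℂ) g = 0 := by
      rw [← Finset.add_sum_erase _ _ (Finset.mem_filter.2 ⟨Finset.mem_univ (1 : G), one_mem _⟩),
        Finset.sum_congr rfl (g := fun _ => (-1 : ℂ)) (fun z hz => by
          obtain ⟨hz1, hz⟩ := Finset.mem_erase.1 hz
          rw [← Char.classFun_isConj (Char.isClassFunction_of_isIrr χ.2)
            (hone z (Finset.mem_filter.1 hz).2 hz1).2, hJval]),
        Finset.sum_const, Finset.card_erase_of_mem (Finset.mem_filter.2 ⟨Finset.mem_univ _, one_mem _⟩),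
        card_filter_mem, hP4, h1]
      norm_num
    set CP := Subgroup.centralizer ((P : Subgroup G) : Set G) with hCP
    have hPCP : (P : Subgroup G) ≤ CP := fun a ha =>
      Subgroup.mem_centralizer_iff.2 fun b hb => hPcomm b hb a ha
    have hCP0 : ∑ g ∈ Finset.univ.filter (fun g : G => g ∈ CP), (χ : G → ℂ) g = 0 :=
      by_contra fun h => sum_ne_zero hχ hPCP h hP0
    have hsplit : ∑ g ∈ Finset.univ.filter (fun g : G => g ∈ CP), (χ : G → ℂ) g =
        ∑ z ∈ Finset.univ.filter (fun g : G => g ∈ (P : Subgroup G)),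
          ∑ v ∈ Finset.univ.filter (fun v : G => v ∈ W), (χ : G → ℂ) (z * v) := by
      rw [← Finset.sum_product']
      symm
      refine Finset.sum_bij (fun a _ => a.1 * a.2) (fun a ha => ?_) (fun a ha b hb h => ?_)
        (fun g hg => ?_) (fun a _ => rfl)
      · obtain ⟨ha1, ha2⟩ := Finset.mem_product.1 ha
        exact Finset.mem_filter.2 ⟨Finset.mem_univ _, mul_mem (hPCP (Finset.mem_filter.1 ha1).2)
          (Finset.mem_filter.1 ha2).2.2⟩
      · obtain ⟨ha1, ha2⟩ := Finset.mem_product.1 ha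
        obtain ⟨hb1, hb2⟩ := Finset.mem_product.1 hb
        have h2 : b.1⁻¹ * a.1 = b.2 * a.2⁻¹ := by
          rw [eq_mul_inv_iff_mul_eq, mul_assoc, show a.1 * a.2 = b.1 * b.2 from h,
            inv_mul_cancel_left]
        have h3 : b.1⁻¹ * a.1 = 1 := hnot2 _
          (h2 ▸ mul_mem (Finset.mem_filter.1 hb2).2.1 (inv_mem (Finset.mem_filter.1 ha2).2.1))
          (mul_mem (inv_mem (Finset.mem_filter.1 hb1).2) (Finset.mem_filter.1 ha1).2)
        have h4 : a.1 = b.1 := (inv_mul_eq_one.1 h3).symm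
        refine Prod.ext h4 ?_
        have h5 : a.1 * a.2 = b.1 * b.2 := h
        rw [h4] at h5
        exact mul_left_cancel h5
      · have hgCP : g ∈ CP := (Finset.mem_filter.1 hg).2
        have hgC : g ∈ C := (hmemC g).2 (Subgroup.mem_centralizer_iff.1 hgCP J hJ).symm
        set po := Blocks.pPartOf 2 g with hpo
        set pr := Blocks.pPrimePartOf 2 g with hpr
        have hpoCP : po ∈ CP := pow_mem hgCP _
        have hprCP : pr ∈ CP := pow_mem hgCP _
        have hpoP : po ∈ (P : Subgroup G) := by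
          obtain ⟨k, hk⟩ := Blocks.orderOf_pPartOf Nat.prime_two g
          have hpg : IsPGroup 2 ((P : Subgroup G) ⊔ Subgroup.zpowers po : Subgroup G) := by
            refine IsPGroup.to_sup_of_normal_left' P.isPGroup'
              (IsPGroup.of_card (n := k) (by rw [Nat.card_zpowers, hk])) ?_
            exact Subgroup.zpowers_le.2 (Subgroup.centralizer_le_normalizer _ hpoCP)
          exact (P.is_maximal' hpg le_sup_left) ▸ le_sup_right (b := Subgroup.zpowers po)
            (Subgroup.mem_zpowers po)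
        refine ⟨(po, pr), Finset.mem_product.2 ⟨Finset.mem_filter.2 ⟨Finset.mem_univ _, hpoP⟩,
          Finset.mem_filter.2 ⟨Finset.mem_univ _, (hWmem pr).2 ⟨hprCP, ?_⟩⟩⟩,
          Blocks.pPartOf_mul_pPrimePartOf Nat.prime_two g⟩
        exact Nat.odd_iff.2 (Nat.two_dvd_ne_zero.1 (Blocks.not_dvd_orderOf_pPrimePartOf Nat.prime_two g))
    rw [hCP0, ← Finset.add_sum_erase _ _ (Finset.mem_filter.2 ⟨Finset.mem_univ (1 : G), one_mem _⟩),
      Finset.sum_congr rfl (g := fun _ => ∑ v ∈ Finset.univ.filter (fun v : G => v ∈ W),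
        (χ : G → ℂ) (J * v)) (s₁ := Finset.erase _ _) (fun z hz => hA z
          (Finset.mem_filter.1 (Finset.mem_of_mem_erase hz)).2 (Finset.ne_of_mem_erase hz)),
      Finset.sum_const, Finset.card_erase_of_mem (Finset.mem_filter.2 ⟨Finset.mem_univ _, one_mem _⟩),
      card_filter_mem, hP4, nsmul_eq_mul] at hsplit
    simp only [one_mul] at hsplit
    obtain ⟨HW, -, hHWc, hHWsum⟩ := exists_extend (O := W) hJJ
      (fun v hv => ((hmemC v).1 (hOC hv.1)).symm) (fun h => hJO h.1)
    obtain ⟨m', hm'⟩ := exists_mult hχ HW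
    have h2 := hHWsum (χ : G → ℂ)
    rw [hm', hFW, hHWc] at h2
    rw [hFW] at hsplit
    have h3 : ((FW : ℕ) : ℂ) = ((3 * m' : ℕ) : ℂ) := by
      refine mul_left_cancel₀ (Nat.cast_ne_zero.2 (Nat.card_pos (α := W)).ne' :
        (Nat.card W : ℂ) ≠ 0) ?_
      push_cast at h2 hsplit ⊢
      linear_combination (-3 / 2 : ℂ) * h2 + (1 / 2 : ℂ) * hsplit
    have h4 : FW = 3 * m' := by exact_mod_cast h3
    have h5 := sum_ne_zero hχ (W := W) inf_le_left (show ∑ g ∈ Finset.univ.filter
      (fun g : G => g ∈ O), (χ : G → ℂ) g ≠ 0 by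
        rw [hF]; exact mul_ne_zero hOc0 (Nat.cast_ne_zero.2 (by omega)))
    rw [hFW] at h5
    have h6 : FW ≠ 0 := fun h => h5 (by rw [h, Nat.cast_zero, mul_zero])
    have h7 := hFle W FW hFW
    refine eq_bot_of_full hχ hfaith ?_
    rw [hFW, h1, show FW = 3 by omega]
    norm_num
  -- an involution inverting `O`
  obtain ⟨z, hz, hz1, hzJ⟩ : ∃ z ∈ (P : Subgroup G), z ≠ 1 ∧ z ≠ J := by
    by_contra! h
    have hsub : Finset.univ.filter (fun g : G => g ∈ (P : Subgroup G)) ⊆ {1, J} := fun g hg => by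
      rw [Finset.mem_insert, Finset.mem_singleton]
      exact or_iff_not_imp_left.2 (h g (Finset.mem_filter.1 hg).2)
    have := (Finset.card_le_card hsub).trans Finset.card_le_two
    rw [card_filter_mem, hP4] at this
    omega
  have hzz : z * z = 1 := by rw [← sq, ← (hone z hz hz1).1, pow_orderOf_eq_one]
  have hzC : z ∈ C := hPC hz
  have hinv : ∀ v ∈ O, z * v * z⁻¹ = v⁻¹ := by
    let φ : O →* O :=
      { toFun := fun v => ⟨z * v * z⁻¹, hOn z hzC v v.2⟩
        map_one' := Subtype.ext (by simp)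
        map_mul' := fun a b => Subtype.ext (by simp [mul_assoc]) }
    have hfpf : MonoidHom.FixedPointFree φ := by
      intro v hv
      have hv' : z * (v : G) * z⁻¹ = v := congrArg Subtype.val hv
      have hvz := mul_inv_eq_iff_eq_mul.1 hv'
      have hmem : (v : G) ∈ W := ⟨v.2, Subgroup.mem_centralizer_iff.2 fun x hx => ?_⟩
      · rw [hWbot, Subgroup.mem_bot] at hmem
        exact Subtype.ext hmem
      have hvJ : (v : G) * J = J * v := (hmemC _).1 (hOC v.2)
      change x ∈ (P : Subgroup G) at hx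
      have hsub : ({1, J, z, z * J} : Finset G) =
          Finset.univ.filter (fun g : G => g ∈ (P : Subgroup G)) := by
        refine Finset.eq_of_subset_of_card_le (fun g hg => ?_) ?_
        · simp only [Finset.mem_insert, Finset.mem_singleton] at hg
          refine Finset.mem_filter.2 ⟨Finset.mem_univ _, ?_⟩
          rcases hg with rfl | rfl | rfl | rfl
          exacts [one_mem _, hJ, hz, mul_mem hz hJ]
        · have hzJ1 : z * J ≠ 1 := fun h => hzJ ((eq_inv_of_mul_eq_one_left h).trans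
            (inv_eq_of_mul_eq_one_right hJJ))
          rw [card_filter_mem, hP4]
          rw [Finset.card_insert_of_notMem, Finset.card_insert_of_notMem,
            Finset.card_insert_of_notMem, Finset.card_singleton]
          · simp only [Finset.mem_singleton]
            exact fun h => hJ1 (mul_left_cancel (h.symm.trans (mul_one z).symm))
          · simp only [Finset.mem_insert, Finset.mem_singleton, not_or]
            exact ⟨hzJ.symm, fun h => hz1 (mul_right_cancel (h.symm.trans (one_mul J).symm))⟩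
          · simp only [Finset.mem_insert, Finset.mem_singleton, not_or]
            exact ⟨hJ1.symm, hz1.symm, hzJ1.symm⟩
      have hx' : x ∈ ({1, J, z, z * J} : Finset G) :=
        hsub ▸ Finset.mem_filter.2 ⟨Finset.mem_univ _, hx⟩
      simp only [Finset.mem_insert, Finset.mem_singleton] at hx'
      rcases hx' with rfl | rfl | rfl | rfl
      · rw [one_mul, mul_one]
      · exact hvJ.symm
      · exact hvz
      · rw [mul_assoc, ← hvJ, ← mul_assoc, hvz, mul_assoc]
    have hφ2 : φ^[2] = _root_.id := funext fun v => Subtype.ext (by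
      show z * (z * (v : G) * z⁻¹) * z⁻¹ = (v : G)
      rw [show z * (z * (v : G) * z⁻¹) * z⁻¹ = (z * z) * v * (z * z)⁻¹ by group, hzz]
      group)
    intro v hv
    exact congrArg Subtype.val (congrFun (hfpf.coe_eq_inv_of_sq_eq_one hφ2) ⟨v, hv⟩)
  -- the plus line
  have hm1 : m ≠ 0 := by
    intro hm0
    have hr := Char.isCharacter_res C hχ
    obtain ⟨a, ha, hexp, hd⟩ := HalfDeg.exists_coeff hr
    set JC : C := ⟨J, hJC⟩ with hJCd
    have hJcen : JC ∈ Subgroup.center C :=
      Subgroup.mem_center_iff.2 fun g => Subtype.ext ((hmemC g).1 g.2)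
    have hcc : ∀ ν : IrrCharacter C,
        HalfDeg.cchar ν JC = 1 ∨ HalfDeg.cchar ν JC = -1 := fun ν => by
      have h := HalfDeg.cchar_mul ν hJcen hJcen
      rw [show JC * JC = 1 from Subtype.ext hJJ, HalfDeg.cchar_one] at h
      exact mul_self_eq_one_iff.1 h.symm
    set Sp := Finset.univ.filter (fun ν : IrrCharacter C => HalfDeg.cchar ν JC = 1) with hSp
    have hsum : ∑ ν ∈ Sp, a ν * charDegree (ν : C → ℂ) = 1 := by
      have e1 := hexp 1
      have e2 := hexp JC
      simp only [OneMemClass.coe_one, hJCd, h1, hJval] at e1 e2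
      have h3 : (2 : ℂ) * ((∑ ν ∈ Sp, a ν * charDegree (ν : C → ℂ) : ℕ) : ℂ) = 2 := by
        have h4 : ∑ ν : IrrCharacter C, ((a ν : ℂ) * (ν : C → ℂ) 1 + (a ν : ℂ) * (ν : C → ℂ) JC) =
            2 := by
          rw [Finset.sum_add_distrib, ← e1, ← e2]
          norm_num
        refine Eq.trans ?_ h4
        rw [hSp, Finset.sum_filter]
        push_cast
        rw [Finset.mul_sum]
        refine Finset.sum_congr rfl fun ν _ => ?_
        have h5 : (ν : C → ℂ) JC = HalfDeg.cchar ν JC * (ν : C → ℂ) 1 := by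
          rw [HalfDeg.cchar, div_mul_cancel₀ _ (Char.IsIrr.one_ne_zero ν.2)]
        rw [h5, ← Blocks.charDegree_cast (Char.IsIrr.isCharacter ν.2)]
        rcases hcc ν with h | h
        · rw [if_pos h, h]; push_cast; ring
        · rw [if_neg (by rw [h]; norm_num), h]; push_cast; ring
      have h6 := mul_left_cancel₀ two_ne_zero (h3.trans (mul_one (2 : ℂ)).symm)
      exact_mod_cast h6
    obtain ⟨ν, hν, hνne⟩ : ∃ ν ∈ Sp, a ν * charDegree (ν : C → ℂ) ≠ 0 := by
      by_contra! h
      rw [Finset.sum_eq_zero h] at hsum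
      omega
    have hν1 : a ν * charDegree (ν : C → ℂ) = 1 := by
      have := Finset.single_le_sum (f := fun ν : IrrCharacter C => a ν * charDegree (ν : C → ℂ))
        (fun _ _ => Nat.zero_le _) hν
      omega
    have hdeg : (ν : C → ℂ) 1 = 1 := by
      rw [← Blocks.charDegree_cast (Char.IsIrr.isCharacter ν.2), (mul_eq_one.1 hν1).2, Nat.cast_one]
    have hνJ : (ν : C → ℂ) JC = 1 := by
      have h := (Finset.mem_filter.1 hν).2
      rwa [HalfDeg.cchar, hdeg, div_one] at h
    obtain ⟨f, hf⟩ := Char.IsChar.exists_hom (Char.IsIrr.isCharacter ν.2) hdeg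
    have hfO : ∀ v : C, (v : G) ∈ O → f v = 1 := by
      intro v hv
      have h2 : f v * f v = 1 := by
        have e : (⟨z, hzC⟩ : C) * v * (⟨z, hzC⟩ : C)⁻¹ = v⁻¹ := Subtype.ext (hinv v hv)
        have e' := congrArg f e
        rw [map_mul, map_mul, map_inv, map_inv, mul_comm (f _) (f v), mul_inv_cancel_right] at e'
        exact mul_eq_one_iff_eq_inv.2 e'
      obtain ⟨k, hk⟩ := hoddo v hv
      have h3 : f v ^ orderOf (v : G) = 1 := by
        rw [← map_pow]
        convert map_one f
        exact Subtype.ext (pow_orderOf_eq_one (v : G))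
      rwa [hk, pow_succ, pow_mul, pow_two, h2, one_pow, one_mul] at h3
    have hne0 : classInner (fun k : C => (χ : G → ℂ) k) (ν : C → ℂ) ≠ 0 := by
      rw [ha]
      exact Nat.cast_ne_zero.2 (by intro h; rw [h, zero_mul] at hν1; omega)
    have hsub := Char.IsChar.sub_constituent hr ν.2 hne0
    have hHC : H ≤ C := fun g hg => by
      rcases (hH g).1 hg with h | h
      · exact hOC h
      · have := mul_mem hJC (hOC h)
        rwa [← mul_assoc, hJJ, one_mul] at this
    have hνH : ∀ g : H.subgroupOf C, (ν : C → ℂ) (g : C) = 1 := by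
      intro g
      rw [hf]
      show ((f (g : C) : ℂˣ) : ℂ) = 1
      rcases (hH _).1 (Subgroup.mem_subgroupOf.1 g.2) with h | h
      · rw [hfO _ h, Units.val_one]
      · have e : (g : C) = JC * (JC * g) := by
          rw [← mul_assoc, show JC * JC = 1 from Subtype.ext hJJ, one_mul]
        rw [e, map_mul, hfO (JC * g) h, mul_one]
        have := hνJ
        rw [hf] at this
        exact this
    obtain ⟨n, hn⟩ := Char.classInner_isCharacter_eq_natCast (G := H.subgroupOf C)
      (Char.isCharacter_res (H.subgroupOf C) hsub) Char.isCharacter_one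
    have esum : ∑ w : H.subgroupOf C, (χ : G → ℂ) ((w : C) : G) = 0 := by
      rw [show (0 : ℂ) = ∑ g ∈ Finset.univ.filter (fun g : G => g ∈ H), (χ : G → ℂ) g by
        rw [hm, hm0, Nat.cast_zero, mul_zero]]
      rw [Finset.sum_subtype (Finset.univ.filter fun g : G => g ∈ H) (p := fun g => g ∈ H)
        (F := inferInstance) (fun g => by simp) (χ : G → ℂ)]
      exact Fintype.sum_equiv (Subgroup.subgroupOfEquivOfLe hHC).toEquiv _ _ fun w => rfl
    rw [classInner] at hn
    simp only [map_one, mul_one, Pi.sub_apply, Finset.sum_sub_distrib, hνH] at hn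
    rw [esum, Finset.sum_const, Finset.card_univ, nsmul_eq_mul, mul_one, zero_sub, mul_neg,
      ← Nat.card_eq_fintype_card, inv_mul_cancel₀ (Nat.cast_ne_zero.2 Nat.card_pos.ne')] at hn
    have h7 : ((n : ℕ) : ℂ).re = (-1 : ℂ).re := by rw [← hn]
    simp at h7
    have : (0 : ℝ) ≤ n := Nat.cast_nonneg n
    linarith
  have hF3 : F = 3 := by have := hFle O F hF; omega
  rw [hcard, eq_bot_of_full hχ hfaith (H := O) (by rw [hF, h1, hF3]; norm_num), Subgroup.card_bot]

end Cfsg.Agent.Fg24.FourThree
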