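import Cfsg.Agent.Fg24.FourThree.Involution
import Cfsg.Agent.Fg24.FourThree.Arith
import Cfsg.Agent.Fg24.TuanBrauer.ThreePrimes
import Cfsg.Agent.Char.KleinBlock
import Cfsg.Agent.S0948
import Cfsg.Agent.S4480
import Cfsg.Agent.S0992

/-!
# Simple groups of order `4 p^a q^b` and `3 p^a q^b`, `a ≤ 2`
-/

set_option autoImplicit false
set_option linter.unusedSectionVars false

open Cfsg
open scoped ComplexConjugate Classical

namespace Cfsg.Agent.Fg24.FourThree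

universe u

variable {G : Type u} [Group G] [Fintype G] [IsSimpleGroup G]

theorem not_two_primes (hnc : ¬ ∀ a b : G, a * b = b * a) {p q a b : ℕ} (hp : p.Prime)
    (hq : q.Prime) (h : Nat.card G = p ^ a * q ^ b) : False :=
  hnc (IsSimpleGroup.comm_iff_isSolvable.2
    (Char.isSolvable_of_card_eq p q hp hq _ G rfl ⟨a, b, h⟩))

theorem not_degree_one (hnc : ¬ ∀ a b : G, a * b = b * a) {χ : IrrCharacter G}
    (hne : (χ : G → ℂ) ≠ fun _ => 1) : charDegree (χ : G → ℂ) ≠ 1 := fun h => hne (by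
  have h1 := Brauer.eq_triv_of_degree_one (χ := χ) (TuanBrauer.perfect hnc) (by
    rw [← Blocks.charDegree_cast (Char.IsIrr.isCharacter χ.2), h, Nat.cast_one])
  rw [h1]
  rfl)

/-- No nontrivial irreducible character of degree `p` if a Sylow subgroup has order `p ^ 2`. -/
theorem no_degree_prime (hnc : ¬ ∀ a b : G, a * b = b * a) {p : ℕ} (hp : p.Prime)
    (hcard : p ^ 2 ∣ Nat.card G) (hsq : ¬ p ^ 3 ∣ Nat.card G) {χ : IrrCharacter G}
    (hne : χ ≠ Blocks.triv G) (hdeg : charDegree (χ : G → ℂ) = p) : False := by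
  haveI := Fact.mk hp
  obtain ⟨P⟩ := (inferInstance : Nonempty (Sylow p G))
  have hP : Nat.card (P : Subgroup G) = p ^ 2 := by
    rw [P.card_eq_multiplicity]
    congr 1
    exact le_antisymm (Nat.le_of_not_lt fun h =>
      hsq ((hp.pow_dvd_iff_le_factorization Nat.card_pos.ne').2 h))
      ((hp.pow_dvd_iff_le_factorization Nat.card_pos.ne').1 hcard)
  have hcomm := IsPGroup.commutative_of_card_eq_prime_sq (p := p) hP
  have hone : (χ : G → ℂ) 1 = (p : ℂ) := by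
    rw [← Blocks.charDegree_cast (Char.IsIrr.isCharacter χ.2), hdeg]
  have hval : ∀ u ∈ (P : Subgroup G), u ≠ 1 → (χ : G → ℂ) u = 0 := by
    intro u hu hu1
    have hle : (P : Subgroup G) ≤ Subgroup.centralizer ({u} : Set G) := fun x hx => by
      rw [Subgroup.mem_centralizer_singleton_iff]
      exact congrArg Subtype.val (hcomm ⟨x, hx⟩ ⟨u, hu⟩)
    refine (Char.IsIrr.zero_or_norm_eq χ.2 u hone ?_).resolve_right fun h => ?_
    · exact hp.coprime_iff_not_dvd.2 fun h =>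
        P.not_dvd_index (h.trans (Subgroup.index_dvd_of_le hle))
    · refine hu1 ?_
      have h2 := TuanBrauer.mem_center_of_norm (TuanBrauer.faithful_of_simple hne)
        (h.trans (by rw [hdeg]))
      rwa [TuanBrauer.center_eq_bot hnc, Subgroup.mem_bot] at h2
  obtain ⟨m, hm⟩ := exists_mult (Char.IsIrr.isCharacter χ.2) (P : Subgroup G)
  rw [Finset.sum_eq_single (1 : G) (fun u hu hu1 => hval u (Finset.mem_filter.1 hu).2 hu1)
    (fun h => absurd (Finset.mem_filter.2 ⟨Finset.mem_univ _, one_mem _⟩) h), hone, hP,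
    ← Nat.cast_mul, Nat.cast_inj] at hm
  have hle := Nat.le_mul_of_pos_right (p ^ 2) (Nat.pos_of_ne_zero (n := m) fun h => by
    rw [h, mul_zero] at hm; exact hp.ne_zero hm)
  rw [← hm, pow_two] at hle
  have := Nat.mul_le_mul_left p hp.two_le
  have := hp.pos
  omega

/-- Order `4 p^a q^b`. -/
theorem four (hnc : ¬ ∀ a b : G, a * b = b * a) {p q a b : ℕ} (hp : p.Prime) (hq : q.Prime)
    (hpq : p ≠ q) (ha : a ≤ 2) (hG : Nat.card G = 4 * p ^ a * q ^ b) :
    Nonempty (G ≃* alternatingGroup (Fin 5)) := by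
  by_cases hp2 : p = 2
  · subst hp2
    exact (not_two_primes hnc hp hq (a := a + 2) (b := b) (by rw [hG]; ring)).elim
  by_cases hq2 : q = 2
  · subst hq2
    exact (not_two_primes hnc hp hq (a := a) (b := b + 2) (by rw [hG]; ring)).elim
  have hpo := hp.odd_of_ne_two hp2
  have hqo := hq.odd_of_ne_two hq2
  obtain ⟨g₀, hg₀d⟩ : ∃ g, g = p ^ a * q ^ b := ⟨_, rfl⟩
  have hG' : Nat.card G = 4 * g₀ := by rw [hG, hg₀d]; ring
  have hg₀ : Odd g₀ := hg₀d ▸ (hpo.pow).mul hqo.pow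
  have hpq₀ : IsPQ p q g₀ := hg₀d ▸ ((isPQ_left hp).pow a).mul ((isPQ_right hq).pow b)
  have hno : ¬ ∃ N : Subgroup G, N.Normal ∧ Nat.card N = g₀ := by
    rintro ⟨N, hN, hc⟩
    rcases hN.eq_bot_or_eq_top with h | h
    · rw [h, Subgroup.card_bot] at hc
      exact not_two_primes hnc Nat.prime_two Nat.prime_two (a := 2) (b := 0)
        (by rw [hG', ← hc]; norm_num)
    · rw [h, Subgroup.card_top, hG'] at hc
      have := hg₀.pos
      omega
  obtain ⟨P⟩ := (inferInstance : Nonempty (Sylow 2 G))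
  haveI : Fact (Nat.Prime 2) := ⟨Nat.prime_two⟩
  have hP4 := Char.card_sylow_four hG' hg₀ P
  obtain ⟨hK, -⟩ := S0992.result (G := G) (fun h => hnc fun x y => h.is_comm.comm x y)
    (hG' ▸ (even_iff_two_dvd.2 ⟨2 * g₀, by ring⟩)) (by
      rw [hG']
      intro h
      obtain ⟨k, hk⟩ := h
      obtain ⟨t, ht⟩ := hg₀
      omega) P
  obtain ⟨J, hJ, hJ2⟩ : ∃ J ∈ (P : Subgroup G), orderOf J = 2 := by
    obtain ⟨x, hx⟩ := exists_prime_orderOf_dvd_card' (G := (P : Subgroup G)) 2 (by rw [hP4]; norm_num)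
    exact ⟨x, x.2, by rw [Subgroup.orderOf_coe, hx]⟩
  have hinP := fun z (hz : z ∈ (P : Subgroup G)) (hz1 : z ≠ 1) =>
    Char.sylow_four_involutions hG' hg₀ hno P hJ hJ2 hz hz1
  have hconjJ : ∀ s : G, orderOf s = 2 → IsConj J s := by
    intro s hs
    obtain ⟨c, hc⟩ := BlockThms.OrderP.exists_conj_mem P (u := s) ⟨1, by rw [hs, pow_one]⟩
    have hc1 : c * s * c⁻¹ ≠ 1 := fun h => by
      rw [conj_eq_one_iff] at h
      rw [h, orderOf_one] at hs
      omega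
    exact (hinP _ hc hc1).2.trans (isConj_iff.2 ⟨c, rfl⟩).symm
  obtain ⟨M, hM⟩ := Blocks.exists_isPModular 2 Nat.prime_two
  obtain ⟨χ₁, χ₂, χ₃, ε, hε, hn1, hn2, hd12, hd13, hd23, hB, hval, hm1, hm2, hm3, hrelc⟩ :=
    S0948.result M hM P hK (fun s t hs ht => (hconjJ s hs).symm.trans (hconjJ t ht))
  have hvJ := hval J hJ2
  have hn3 : (χ₃ : G → ℂ) ≠ fun _ => 1 := fun h => by
    have := hvJ.2.2
    rw [h] at this
    norm_num at this
  obtain ⟨x₁, hx1⟩ : ∃ x, x = charDegree (χ₁ : G → ℂ) := ⟨_, rfl⟩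
  obtain ⟨x₂, hx2⟩ : ∃ x, x = charDegree (χ₂ : G → ℂ) := ⟨_, rfl⟩
  obtain ⟨x₃, hx3⟩ : ∃ x, x = charDegree (χ₃ : G → ℂ) := ⟨_, rfl⟩
  rw [← hx1] at hm1
  rw [← hx2] at hm2
  rw [← hx3] at hm3
  have hrel : (1 : ℤ) + x₁ + ε * x₂ - x₃ = 0 := by
    have h := hrelc 1 (by rw [orderOf_one]; exact odd_one)
    rw [← Blocks.charDegree_cast (Char.IsIrr.isCharacter χ₁.2),
      ← Blocks.charDegree_cast (Char.IsIrr.isCharacter χ₂.2),
      ← Blocks.charDegree_cast (Char.IsIrr.isCharacter χ₃.2), ← hx1, ← hx2, ← hx3] at h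
    exact_mod_cast h
  have hxdvd : ∀ χ : IrrCharacter G, Odd (charDegree (χ : G → ℂ)) →
      charDegree (χ : G → ℂ) ∣ g₀ := by
    intro χ ho
    have h := Char.IsIrr.degree_dvd_card χ.2
      (Blocks.charDegree_cast (Char.IsIrr.isCharacter χ.2)).symm
    rw [hG', show 4 = 2 ^ 2 by norm_num] at h
    exact ((Nat.coprime_two_right.2 ho).pow_right 2).dvd_of_dvd_mul_left h
  have hodd1 : Odd x₁ := Nat.odd_iff.2 (by omega)
  have hodd3 : Odd x₃ := Nat.odd_iff.2 (by omega)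
  set cP := Nat.card (Subgroup.centralizer ((P : Subgroup G) : Set G)) with hcP
  have hc4 : 4 ∣ cP := hP4 ▸ Subgroup.card_dvd_of_le fun x hx =>
    Subgroup.mem_centralizer_iff.2 fun y hy => Char.sylow_four_comm hG' hg₀ P hy hx
  rcases hε with rfl | rfl
  · exfalso
    obtain ⟨m, -, hm⟩ := S4480.result M hM g₀ hg₀ hG' hno P J hJ hJ2 χ₁ χ₂ χ₃ 1 1 (-1) hB
      ⟨hn1, hn2, hn3, hd12, hd13, hd23⟩ ⟨Or.inl rfl, Or.inl rfl, Or.inr rfl⟩
      ⟨by exact_mod_cast hvJ.1, hvJ.2.1, by push_cast; exact hvJ.2.2⟩ (by norm_num) rfl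
    rw [← hx3, hG', ← hcP] at hm
    obtain ⟨c', hc'⟩ := hc4
    obtain ⟨K, hK3⟩ : ∃ K, x₃ + 1 = 4 * K := ⟨(x₃ + 1) / 4, by omega⟩
    have hcube : x₃ ^ 3 - x₃ = 8 * ((2 * K - 1) * x₃ * K) := by
      obtain ⟨j, rfl⟩ : ∃ j, K = j + 1 := ⟨K - 1, by omega⟩
      have hx : x₃ = 4 * j + 3 := by omega
      subst hx
      rw [show 2 * (j + 1) - 1 = 2 * j + 1 by omega]
      exact Nat.sub_eq_of_eq_add (by ring)
    rw [hcube, hc'] at hm
    have hdvd : (2 * K - 1) * x₃ * K ∣ g₀ :=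
      ⟨m ^ 3 * c', Nat.eq_of_mul_eq_mul_left (show 0 < 32 by norm_num) (by linear_combination hm)⟩
    have hKo : Odd K := hg₀.of_dvd_nat ((dvd_mul_left K _).trans hdvd)
    obtain ⟨j, hj⟩ := hKo
    have h3 := pos_three (x := x₃) (p := p) (q := q) (by omega)
      (hpq₀.of_dvd ((dvd_mul_left x₃ _).trans ((dvd_mul_right _ K).trans hdvd)))
      (hpq₀.of_dvd ((show (x₃ - 1) / 2 = 2 * K - 1 by omega) ▸
        (dvd_mul_right (2 * K - 1) x₃).trans ((dvd_mul_right _ K).trans hdvd)))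
      (hpq₀.of_dvd ((show (x₃ + 1) / 4 = K by omega) ▸ (dvd_mul_left K _).trans hdvd))
    have h1 := not_degree_one hnc hn1
    have h2 := not_degree_one hnc hn2
    rw [← hx1] at h1
    rw [← hx2] at h2
    have p1 : 0 < x₁ := hx1 ▸ Blocks.charDegree_pos χ₁.2
    have p2 : 0 < x₂ := hx2 ▸ Blocks.charDegree_pos χ₂.2
    omega
  have hodd2 : Odd x₂ := Nat.odd_iff.2 (by omega)
  obtain ⟨k, y₁, y₂, y₃, hk, ⟨e1, e2, e3⟩, -, hC, -, hcount, -, -⟩ :=
    Char.klein_data M hM g₀ hg₀ hG' hno P J hJ hJ2 χ₁ χ₂ χ₃ 1 (-1) (-1) hB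
      ⟨hn1, hn2, hn3, hd12, hd13, hd23⟩ ⟨Or.inl rfl, Or.inr rfl, Or.inr rfl⟩
      ⟨by exact_mod_cast hvJ.1, hvJ.2.1, by push_cast; exact hvJ.2.2⟩
  have ey : y₁ = x₁ ∧ y₂ = x₂ ∧ y₃ = x₃ := ⟨hx1 ▸ (Blocks.charDegree_eq e1).symm,
    hx2 ▸ (Blocks.charDegree_eq e2).symm, hx3 ▸ (Blocks.charDegree_eq e3).symm⟩
  obtain ⟨rfl, rfl, rfl⟩ := ey
  set C := Subgroup.centralizer ({J} : Set G) with hCd
  obtain ⟨A, hA⟩ : ∃ A, y₁ + 1 = 2 * A := ⟨(y₁ + 1) / 2, by omega⟩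
  obtain ⟨B, hB'⟩ : ∃ B, y₂ = 2 * B + 1 := ⟨y₂ / 2, by omega⟩
  obtain ⟨D, hD⟩ : ∃ D, y₃ = 2 * D + 1 := ⟨y₃ / 2, by omega⟩
  have hidx : C.index * (A * B * D) = k ^ 2 * (y₁ * y₂ * y₃) := by
    have p1 : (y₁ : ℂ) ≠ 0 := Nat.cast_ne_zero.2 hodd1.pos.ne'
    have p2 : (y₂ : ℂ) ≠ 0 := Nat.cast_ne_zero.2 hodd2.pos.ne'
    have p3 : (y₃ : ℂ) ≠ 0 := Nat.cast_ne_zero.2 hodd3.pos.ne'
    have hA' : (y₁ : ℂ) = 2 * (A : ℂ) - 1 := by
      have h : ((y₁ + 1 : ℕ) : ℂ) = ((2 * A : ℕ) : ℂ) := by rw [hA]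
      push_cast at h
      linear_combination h
    have hB2 : (y₂ : ℂ) = 2 * (B : ℂ) + 1 := by rw [hB']; push_cast; ring
    have hD2 : (y₃ : ℂ) = 2 * (D : ℂ) + 1 := by rw [hD]; push_cast; ring
    have hABD : (A : ℂ) = (B : ℂ) + D + 1 := by
      have h : A = B + D + 1 := by omega
      exact_mod_cast h
    have hG0 : (Nat.card G : ℂ) = (Nat.card C : ℂ) * C.index := by
      rw [← Nat.cast_mul, Subgroup.card_mul_index]
    have h : ((C.index * (A * B * D) : ℕ) : ℂ) = ((k ^ 2 * (y₁ * y₂ * y₃) : ℕ) : ℂ) := by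
      refine mul_left_cancel₀ (mul_ne_zero (show (8 : ℂ) ≠ 0 by norm_num)
        (Nat.cast_ne_zero.2 (Nat.card_pos (α := C)).ne')) ?_
      rw [hG0] at hcount
      push_cast at hcount ⊢
      field_simp at hcount
      rw [hA', hB2, hD2, hABD] at hcount ⊢
      linear_combination (Nat.card C : ℂ) * hcount
    exact_mod_cast h
  have hAo : Odd A := Nat.odd_iff.2 (by omega)
  have hBo : Odd B := Nat.odd_iff.2 (by omega)
  have hDo : Odd D := Nat.odd_iff.2 (by omega)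
  have hy : ∀ {n : ℕ}, n ∣ g₀ → IsPQ p q n := fun h => hpq₀.of_dvd h
  have d1 := hxdvd χ₁ (hx1 ▸ hodd1)
  have d2 := hxdvd χ₂ (hx2 ▸ hodd2)
  have d3 := hxdvd χ₃ (hx3 ▸ hodd3)
  rw [← hx1] at d1
  rw [← hx2] at d2
  rw [← hx3] at d3
  have hpart : ∀ {n : ℕ}, Odd n → n ∣ A * B * D → IsPQ p q n := by
    intro n hn hd r hr hrn
    have h : r ∣ k ^ 2 * (y₁ * y₂ * y₃) := hidx ▸ dvd_mul_of_dvd_right (hrn.trans hd) _
    rcases hr.dvd_mul.1 h with h | h
    · have h2 : r ∣ Nat.card G :=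
        (hr.dvd_of_dvd_pow h).trans ((Dvd.intro _ hC.symm).trans (Subgroup.card_subgroup_dvd_card C))
      rw [hG'] at h2
      refine hpq₀ r hr (((hr.dvd_mul).1 h2).resolve_left fun h4 => ?_)
      have h5 := hr.dvd_of_dvd_pow (n := 2) (m := 2) (by norm_num; exact h4)
      rw [(Nat.prime_dvd_prime_iff_eq hr Nat.prime_two).1 h5] at hrn
      obtain ⟨t, ht⟩ := hn
      omega
    · exact ((hy d1).mul (hy d2)).mul (hy d3) r hr h
  have hle : ∀ {x : ℕ}, x ∣ g₀ → ∀ i, x = p ^ i → i ≤ a := by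
    intro x hx i hi
    rw [hi, hg₀d] at hx
    exact (Nat.pow_dvd_pow_iff_le_right hp.one_lt).1
      (((Nat.coprime_primes hp hq).2 hpq).pow i b |>.dvd_of_dvd_mul_right hx)
  have h11 : 1 < y₁ := by
    have := not_degree_one hnc hn1
    rw [← hx1] at this
    obtain ⟨t, ht⟩ := hodd1
    omega
  obtain ⟨r1, r2, r3⟩ := degrees_eq (q := q) hp hpo hA hB' hD (by omega) hAo hBo hDo h11
    (hy d1) (hy d2) (hy d3) (hpart hAo (dvd_mul_of_dvd_left (dvd_mul_right A B) D))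
    (hpart hBo (dvd_mul_of_dvd_left (dvd_mul_left B A) D)) (hpart hDo (dvd_mul_left D _))
    (fun i h => (hle d1 i h).trans ha) (fun i h => (hle d2 i h).trans ha)
    (fun i h => (hle d3 i h).trans ha)
  obtain ⟨O, hOC, hOodd, hOcard, hOn, havg⟩ := klein_avg M hM g₀ hg₀ hG' hno P J hJ hJ2
  have hC4 : Nat.card C = 4 := card_centralizer_eq_four hP4
    (fun a ha b hb => Char.sylow_four_comm hG' hg₀ P ha hb) hJ hJ2 hinP
    (TuanBrauer.faithful_of_simple (χ := χ₃) fun h => hn3 (by rw [h]; rfl))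
    (by rw [e3, r3]; norm_num) hvJ.2.2 hOC hOodd hOcard hOn
    (havg χ₃ (by rw [hB]; exact Or.inr (Or.inr (Or.inr rfl))))
  have hk1 : k = 1 := by
    obtain ⟨c', hc'⟩ := hc4
    rw [hC4, ← hcP, hc', mul_comm, mul_assoc] at hC
    exact (mul_eq_one.1 (show c' * k = 1 by omega)).2
  have hA3 : A = 3 := by omega
  have hB1 : B = 1 := by omega
  have hD1 : D = 1 := by omega
  rw [hk1, r1, r2, r3, hA3, hB1, hD1] at hidx
  refine Classical.Small.simple_sixty ?_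
  rw [← Subgroup.card_mul_index C, hC4]
  omega

/-- Order `3 2^b p²`, `p ≥ 5`. -/
theorem no_three_sq (hnc : ¬ ∀ a b : G, a * b = b * a) {p b : ℕ} (hp : p.Prime) (hp5 : 5 ≤ p)
    (hG : Nat.card G = 3 * (2 ^ b * p ^ 2)) : False := by
  haveI h3 : Fact (Nat.Prime 3) := ⟨Nat.prime_three⟩
  have hnd : ¬ 3 ∣ 2 ^ b * p ^ 2 := by
    intro h
    rcases Nat.prime_three.dvd_mul.1 h with h | h
    · exact absurd (Nat.prime_three.dvd_of_dvd_pow h) (by norm_num)
    · have := (Nat.prime_dvd_prime_iff_eq Nat.prime_three hp).1 (Nat.prime_three.dvd_of_dvd_pow h)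
      omega
  have hperf := TuanBrauer.perfect hnc
  obtain ⟨P⟩ := (inferInstance : Nonempty (Sylow 3 G))
  obtain ⟨hP, -⟩ := Classical.Small.sylow_card_eq P hG hnd
  obtain ⟨e, hS, he, -⟩ := Brauer.exists_setup hperf P hP
  obtain ⟨B⟩ := Brauer.exists_blockData hS he
  have he2 : e = 2 := by have := Nat.le_of_dvd (by norm_num) hS.exists_y.1; omega
  obtain ⟨θ, hθ⟩ : B.Y.Nonempty := by rw [← Finset.card_pos, B.cardY, he2]; norm_num
  obtain ⟨χ, hχ⟩ : ∃ χ, B.X.erase (Blocks.triv G) = {χ} := Finset.card_eq_one.1 (by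
    rw [Finset.card_erase_of_mem B.triv_mem, B.cardX, he2])
  obtain ⟨hχne, hχX⟩ := Finset.mem_erase.1 (hχ ▸ Finset.mem_singleton_self χ)
  have hθne : θ ≠ Blocks.triv G := fun h => Finset.disjoint_left.1 B.disj B.triv_mem (h ▸ hθ)
  obtain ⟨x, hx⟩ : ∃ x, x = charDegree (χ : G → ℂ) := ⟨_, rfl⟩
  obtain ⟨y, hy⟩ : ∃ y, y = charDegree (θ : G → ℂ) := ⟨_, rfl⟩
  have hrel : B.s * (y : ℤ) + (1 + B.a χ * (x : ℤ)) = 0 := by
    have h := B.rel θ hθ 1 Brauer.not_dvd_one_order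
    rw [← Finset.add_sum_erase _ _ B.triv_mem, hχ, Finset.sum_singleton, B.a_triv,
      ← Blocks.charDegree_cast (Char.IsIrr.isCharacter θ.2),
      ← Blocks.charDegree_cast (Char.IsIrr.isCharacter χ.2), ← hx, ← hy,
      show ((Blocks.triv G : IrrCharacter G) : G → ℂ) 1 = 1 from rfl] at h
    have h' : ((B.s * (y : ℤ) + (1 + B.a χ * (x : ℤ)) : ℤ) : ℂ) = ((0 : ℤ) : ℂ) := by
      push_cast at h ⊢
      linear_combination h
    exact_mod_cast h'
  have hdX := B.degX χ hχX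
  have hdY := B.degY θ hθ
  rw [← hx, Int.modEq_iff_dvd] at hdX
  subst he2
  rw [← hy, Int.modEq_iff_dvd] at hdY
  push_cast at hdX hdY
  have hge : ∀ μ : IrrCharacter G, μ ≠ Blocks.triv G → 2 ≤ charDegree (μ : G → ℂ) := fun μ hμ => by
    have h1 := not_degree_one hnc (χ := μ) fun h => hμ (Subtype.ext (by rw [h]; rfl))
    have h2 : 0 < charDegree (μ : G → ℂ) := Blocks.charDegree_pos μ.2
    omega
  have hx2 : 2 ≤ x := hx ▸ hge χ hχne
  have hy2 : 2 ≤ y := hy ▸ hge θ hθne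
  have hdvd : ∀ μ : IrrCharacter G, ¬ 3 ∣ charDegree (μ : G → ℂ) →
      charDegree (μ : G → ℂ) ∣ 2 ^ b * p ^ 2 := fun μ hμ =>
    (Nat.prime_three.coprime_iff_not_dvd.2 hμ).symm.dvd_of_dvd_mul_left
      (hG ▸ Char.IsIrr.degree_dvd_card μ.2
        (Blocks.charDegree_cast (Char.IsIrr.isCharacter μ.2)).symm)
  -- the odd and the even degree
  obtain ⟨o, v, μ, hμ, hμo, hod, hev, hcons, hvd⟩ : ∃ (o v : ℕ) (μ : IrrCharacter G),
      μ ≠ Blocks.triv G ∧ charDegree (μ : G → ℂ) = o ∧ o % 2 = 1 ∧ 2 ≤ v ∧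
      (v = o + 1 ∨ o = v + 1) ∧ (o ∣ 2 ^ b * p ^ 2 ∧ v ∣ 2 ^ b * p ^ 2) := by
    have h3x : ¬ 3 ∣ x := by rcases B.a_or χ hχX with h | h <;> rw [h] at hdX <;> omega
    have h3y : ¬ 3 ∣ y := by rcases B.s_or with h | h <;> rw [h] at hdY <;> omega
    have dx : x ∣ 2 ^ b * p ^ 2 := hx ▸ hdvd χ (hx ▸ h3x)
    have dy : y ∣ 2 ^ b * p ^ 2 := hy ▸ hdvd θ (hy ▸ h3y)
    have hcase : x = y + 1 ∨ y = x + 1 := by
      rcases B.a_or χ hχX with h | h <;> rcases B.s_or with h' | h' <;> rw [h, h'] at hrel <;> omega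
    rcases Nat.mod_two_eq_zero_or_one x with h | h
    · exact ⟨y, x, θ, hθne, hy.symm, by omega, hx2, by omega, dy, dx⟩
    · exact ⟨x, y, χ, hχne, hx.symm, h, hy2, by omega, dx, dy⟩
  have ho2 : o ∣ p ^ 2 :=
    ((Nat.coprime_two_right.2 (Nat.odd_iff.2 hod)).pow_right b).dvd_of_dvd_mul_left hvd.1
  obtain ⟨i, hi, rfl⟩ := (Nat.dvd_prime_pow hp).1 ho2
  rcases (by omega : i = 0 ∨ i = 1 ∨ i = 2) with h | h | h
  · rw [h, pow_zero] at hμo
    have := hge μ hμ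
    omega
  · rw [h, pow_one] at hμo
    refine no_degree_prime hnc hp ⟨3 * 2 ^ b, by rw [hG]; ring⟩ (fun hd => ?_) hμ hμo
    rw [hG, show 3 * (2 ^ b * p ^ 2) = p ^ 2 * (3 * 2 ^ b) by ring, pow_succ,
      Nat.mul_dvd_mul_iff_left (pow_pos hp.pos 2)] at hd
    rcases hp.dvd_mul.1 hd with hd | hd
    · have := Nat.le_of_dvd (by norm_num) hd; omega
    · have := Nat.le_of_dvd (by norm_num) (hp.dvd_of_dvd_pow hd); omega
  subst h
  have hv : v ∣ 2 ^ b := by
    refine (Nat.Coprime.pow_right 2 ?_).dvd_of_dvd_mul_right hvd.2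
    refine (hp.coprime_iff_not_dvd.2 fun hd => ?_).symm
    have hp1 : p ∣ 1 := by
      rcases hcons with h | h
      · exact (Nat.dvd_add_right (dvd_pow_self p two_ne_zero)).1 (h ▸ hd)
      · exact (Nat.dvd_add_right hd).1 (h ▸ dvd_pow_self p two_ne_zero)
    exact hp.not_dvd_one hp1
  obtain ⟨t, ht⟩ := hp.odd_of_ne_two (by omega)
  have hp2 : p ^ 2 = 4 * (t * t + t) + 1 := by rw [ht]; ring
  obtain ⟨u, -, hu⟩ := (Nat.dvd_prime_pow Nat.prime_two).1 hv
  rcases hcons with h | h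
  · rcases (by omega : u ≤ 1 ∨ 2 ≤ u) with hu' | hu'
    · have := Nat.pow_le_pow_right (show 0 < 2 by norm_num) hu'
      have : 0 < t := by omega
      nlinarith
    · have h4 : 2 ^ 2 ∣ v := hu ▸ pow_dvd_pow 2 hu'
      omega
  · have hd1 : p - 1 ∣ 2 ^ b := by
      refine Dvd.dvd.trans ⟨p + 1, ?_⟩ hv
      have : v = (p - 1) * (p + 1) := by
        rw [ht, Nat.add_sub_cancel]
        have : v = 4 * (t * t + t) := by omega
        rw [this]; ring
      exact this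
    have hd2 : p + 1 ∣ 2 ^ b := by
      refine Dvd.dvd.trans ⟨p - 1, ?_⟩ hv
      have : v = (p + 1) * (p - 1) := by
        rw [ht, Nat.add_sub_cancel]
        have : v = 4 * (t * t + t) := by omega
        rw [this]; ring
      exact this
    obtain ⟨i1, -, h1⟩ := (Nat.dvd_prime_pow Nat.prime_two).1 hd1
    obtain ⟨i2, -, h2⟩ := (Nat.dvd_prime_pow Nat.prime_two).1 hd2
    have h14 : 2 ^ 2 ∣ p - 1 := h1 ▸ pow_dvd_pow 2 (by
      by_contra hh
      have := Nat.pow_le_pow_right (show 0 < 2 by norm_num) (show i1 ≤ 1 by omega)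
      omega)
    have h24 : 2 ^ 2 ∣ p + 1 := h2 ▸ pow_dvd_pow 2 (by
      by_contra hh
      have := Nat.pow_le_pow_right (show 0 < 2 by norm_num) (show i2 ≤ 1 by omega)
      omega)
    omega

/-- Order `3 p^a q^b`. -/
theorem three (hnc : ¬ ∀ a b : G, a * b = b * a) {p q a b : ℕ} (hp : p.Prime) (hq : q.Prime)
    (hpq : p ≠ q) (ha : a ≤ 2) (hG : Nat.card G = 3 * p ^ a * q ^ b) :
    Nonempty (G ≃* alternatingGroup (Fin 5)) ∨
      Nonempty (G ≃* Matrix.ProjectiveSpecialLinearGroup (Fin 2) (ZMod 7)) := by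
  by_cases hp3 : p = 3
  · subst hp3
    exact (not_two_primes hnc hp hq (a := a + 1) (b := b) (by rw [hG]; ring)).elim
  by_cases hq3 : q = 3
  · subst hq3
    exact (not_two_primes hnc hp hq (a := a) (b := b + 1) (by rw [hG]; ring)).elim
  have h2 : p = 2 ∨ q = 2 := by
    by_contra! h
    haveI h3 : Fact (Nat.Prime 3) := ⟨Nat.prime_three⟩
    have hnd : ¬ 3 ∣ p ^ a * q ^ b := fun h' => by
      rcases Nat.prime_three.dvd_mul.1 h' with h' | h'
      · exact hp3 ((Nat.prime_dvd_prime_iff_eq Nat.prime_three hp).1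
          (Nat.prime_three.dvd_of_dvd_pow h')).symm
      · exact hq3 ((Nat.prime_dvd_prime_iff_eq Nat.prime_three hq).1
          (Nat.prime_three.dvd_of_dvd_pow h')).symm
    obtain ⟨P⟩ := (inferInstance : Nonempty (Sylow 3 G))
    obtain ⟨hP, -⟩ := Classical.Small.sylow_card_eq P (by rw [hG, mul_assoc]) hnd
    obtain ⟨e, hS, he, -⟩ := Brauer.exists_setup (TuanBrauer.perfect hnc) P hP
    have he2 : e = 2 := by have := Nat.le_of_dvd (by norm_num) hS.exists_y.1; omega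
    have hd : 2 ∣ Nat.card G := he2 ▸ (Dvd.intro _ hS.card_normalizer.symm).trans
      (Subgroup.card_subgroup_dvd_card _)
    have ho : Odd (Nat.card G) := hG ▸ ((by decide : Odd 3).mul (hp.odd_of_ne_two h.1).pow).mul
      (hq.odd_of_ne_two h.2).pow
    exact Nat.not_even_iff_odd.2 ho (even_iff_two_dvd.2 hd)
  rcases h2 with rfl | rfl
  · rcases (by omega : a = 0 ∨ a = 1 ∨ a = 2) with rfl | rfl | rfl
    · exact (not_two_primes hnc Nat.prime_three hq (a := 1) (b := b) (by rw [hG]; ring)).elim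
    · exfalso
      haveI : Fact (Nat.Prime 2) := ⟨Nat.prime_two⟩
      obtain ⟨P⟩ := (inferInstance : Nonempty (Sylow 2 G))
      obtain ⟨hP, -⟩ := Classical.Small.sylow_card_eq P (m := 3 * q ^ b) (by rw [hG]; ring) (by
        intro h
        rcases Nat.prime_two.dvd_mul.1 h with h | h
        · norm_num at h
        · exact hpq ((Nat.prime_dvd_prime_iff_eq Nat.prime_two hq).1
            (Nat.prime_two.dvd_of_dvd_pow h)))
      obtain ⟨e, hS, he, -⟩ := Brauer.exists_setup (TuanBrauer.perfect hnc) P hP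
      have := Nat.le_of_dvd (by norm_num) hS.exists_y.1
      omega
    · exact Or.inl (four hnc Nat.prime_three hq (Ne.symm hq3) (a := 1) (b := b) (by norm_num)
        (by rw [hG]; ring))
  · rcases (by omega : a = 0 ∨ a = 1 ∨ a = 2) with rfl | rfl | rfl
    · exact (not_two_primes hnc Nat.prime_three hq (a := 1) (b := b) (by rw [hG]; ring)).elim
    · have hncyc : ¬ IsCyclic G := fun h => hnc fun x y => by
        let : CommGroup G := IsCyclic.commGroup
        exact mul_comm x y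
      rcases TuanBrauer.three_primes hncyc Nat.prime_three Nat.prime_two hp (b := b) (by norm_num)
        (Ne.symm hp3) (Ne.symm hpq) (by rw [hG]; ring) with
        ⟨F, iF, iFF, hF, ⟨φ⟩⟩ | ⟨F, iF, iFF, hF, ⟨φ⟩⟩
      · refine Or.inl (Classical.Small.simple_sixty ?_)
        have h := Classical.A5InPSL.card_psl (F := F)
        rw [← Nat.card_congr φ.toEquiv, hF] at h
        norm_num at h
        rw [Nat.card_eq_fintype_card]
        omega
      · haveI : Fact (Nat.Prime 7) := ⟨by norm_num⟩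
        haveI : CharP F 7 := charP_of_card_eq_prime hF
        obtain ⟨E⟩ := Classical.Small.psl_congr (n := 2) (ZMod.ringEquiv F hF).symm
        exact Or.inr ⟨φ.trans E⟩
    · refine (no_three_sq hnc hp (b := b) ?_ (by rw [hG]; ring)).elim
      have := hp.two_le
      rcases (by omega : p = 2 ∨ p = 3 ∨ p = 4 ∨ 5 ≤ p) with h | h | h | h
      · exact absurd h hpq
      · exact absurd h hp3
      · exact absurd (h ▸ hp) (by norm_num)
      · exact h

end Cfsg.Agent.Fg24.FourThree
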